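import Cfsg.Agent.H241.NHThree
import Cfsg.Agent.H393.Iso.HS
import Cfsg.Agent.H757.WkHSThree
import Cfsg.Agent.H904.McLCent
import Cfsg.Agent.H393.Iso.J1
import Cfsg.Agent.H393.Iso.J23
import Cfsg.Agent.H724.IMJThree
import Cfsg.Agent.H898.J3Cent
import Cfsg.Agent.J2Type.ThreeF
import Cfsg.Agent.H603.SporElim
import Cfsg.Agent.Lib.InvolutionKernel
import Cfsg.Agent.Lib.PGroupCoprimeAction
import Cfsg.Agent.CpAut.LyFiveRow
import Cfsg.Agent.R10.FiveComm
import Cfsg.Agent.S0477
import Cfsg.Agent.TypeM.OutLyFin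
import Cfsg.Agent.H613.Ly5.ThirtyOne
import Cfsg.Agent.FastGrp
import Cfsg.Agent.Prune
set_option linter.all false
prune_inst 0x7ffebdfbaffcbfffffff7e77fefddffffdbc7fffffdff9cbffedebffafdf6bef4bd5fbaf1fef10ff9ed6e29430f87bd3f9fffeffeefbfc7ffffd5ff47ffbffdfffffbd88519698340ffc6ffffbf07fae7f3fffffffffffffffffffffffffffffffffffffffff
open scoped Cfsg.Agent.FastGrp

-- part: H846/NHRows
section
/-!
# Rows `HS`, `McL` of the nilpotent Hall cluster (helper846)

* `nc_of_fix_pow` : all orbits of `X` have length divisible by `p ^ k`, and the number of fixed points of an element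
  of order a power of `q` is not divisible by `p ^ k`;
* `row_hs`, `row_mcl`.
-/

set_option autoImplicit false
open Subgroup Equiv

namespace Cfsg.Agent.H846.NHRows

open Cfsg.Agent.H630.NH Cfsg.Agent.H241.NH Cfsg.Agent.H393.Iso
open Cfsg.Agent.SporadicA.PermTab

universe u

section

variable {X : Type u} [Group X] [Finite X] {p q : ℕ}

/-- **Fixed points, with prime powers.** -/
theorem nc_of_fix_pow (hp : p.Prime) (hpq : p ≠ q) {Ω : Type*} [Finite Ω] [MulAction X Ω] {k : ℕ}
    (h : ∀ a : Ω, p ^ k ∣ (MulAction.stabilizer X a).index) {x : X} (hx : ∃ m : ℕ, orderOf x = q ^ m)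
    (hf : ¬ p ^ k ∣ Nat.card (MulAction.fixedBy Ω x)) : NC p q X := by
  intro hc
  have : Fact p.Prime := ⟨hp⟩
  have h1 : ¬ p ∣ (centralizer ({x} : Set X)).index := hc q (by simp) p (by simp) hpq.symm x hx
  obtain ⟨P, hP⟩ := H630.CLib.exists_sylow_le p _ h1
  have hmem : ∀ (g : (P : Subgroup X)) (a : MulAction.fixedBy Ω x), (g : X) • (a : Ω) ∈ MulAction.fixedBy Ω x := by
    intro g a
    have h2 : (g : X) * x = x * g := mem_centralizer_singleton_iff.1 (hP g.2)
    rw [MulAction.mem_fixedBy, smul_smul, ← h2, mul_smul, MulAction.mem_fixedBy.1 a.2]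
  let _inst : MulAction (P : Subgroup X) (MulAction.fixedBy Ω x) :=
    { smul := fun g a => ⟨(g : X) • (a : Ω), hmem g a⟩
      one_smul := fun a => Subtype.ext (one_smul X (a : Ω))
      mul_smul := fun g h a => Subtype.ext (mul_smul (g : X) (h : X) (a : Ω)) }
  -- the length of an orbit of `P`
  have horb : ∀ a : MulAction.fixedBy Ω x, p ^ k ∣ Nat.card (MulAction.orbit (P : Subgroup X) a) := by
    intro a
    have h2 : Nat.card (MulAction.orbit (P : Subgroup X) a) =
        (MulAction.stabilizer (P : Subgroup X) a).index := by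
      rw [Nat.card_congr (MulAction.orbitEquivQuotientStabilizer (P : Subgroup X) a), index_eq_card]
    rw [h2]
    set D : Subgroup X := (MulAction.stabilizer (P : Subgroup X) a).map (P : Subgroup X).subtype with hD
    have h3 : D ≤ MulAction.stabilizer X (a : Ω) := by
      rintro _ ⟨g, hg, rfl⟩
      rw [MulAction.mem_stabilizer_iff]
      exact congrArg Subtype.val hg
    have h4 : p ^ k ∣ D.index := (h (a : Ω)).trans (index_dvd_of_le h3)
    have h5 : D.index = (MulAction.stabilizer (P : Subgroup X) a).index * (P : Subgroup X).index := by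
      rw [hD, index_map_subtype]
    rw [h5] at h4
    exact Nat.Coprime.dvd_of_dvd_mul_right
      (Nat.Coprime.pow_left k ((Nat.Prime.coprime_iff_not_dvd hp).2 P.not_dvd_index)) h4
  apply hf
  rw [Nat.card_congr (MulAction.selfEquivSigmaOrbits (P : Subgroup X) (MulAction.fixedBy Ω x))]
  have : Fintype (MulAction.orbitRel.Quotient (P : Subgroup X) (MulAction.fixedBy Ω x)) := Fintype.ofFinite _
  rw [Nat.card_sigma]
  exact Finset.dvd_sum fun ω _ => horb _

/-- the same for a transitive permutation representation on `Fin n` -/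
theorem nc_of_perm (hp : p.Prime) (hpq : p ≠ q) {n : ℕ} (θ : X →* Perm (Fin n))
    (ht : ∀ i j : Fin n, ∃ g : X, θ g i = j) {k : ℕ} (hk : p ^ k ∣ n) {x : X} (hx : orderOf x = q)
    {c : ℕ} (hc : (Finset.univ.filter fun i => θ x i = i).card = c) (hcd : ¬ p ^ k ∣ c) : NC p q X := by
  let _inst : MulAction X (Fin n) := MulAction.compHom (Fin n) θ
  have hs : ∀ (g : X) (i : Fin n), g • i = θ g i := fun _ _ => rfl
  have htr : MulAction.IsPretransitive X (Fin n) := ⟨fun i j => ht i j⟩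
  refine nc_of_fix_pow hp hpq (Ω := Fin n) (k := k) (fun a => ?_) (x := x) ⟨1, by rw [hx, pow_one]⟩ ?_
  · rw [MulAction.index_stabilizer_of_transitive, Nat.card_eq_fintype_card, Fintype.card_fin]
    exact hk
  · have h1 : Nat.card (MulAction.fixedBy (Fin n) x) = c := by
      rw [← hc]
      exact Nat.subtype_card _ fun i => by rw [Finset.mem_filter]; exact ⟨fun h => h.2, fun h => ⟨Finset.mem_univ i, h⟩⟩
    rw [h1]
    exact hcd

end

/-! ### the Higman–Sims group -/

open Cfsg.Agent.HN.HS100 in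
theorem hs_nc {L : Type u} [Group L] (h : Cfsg.Spor.IsoHS L) (hN : Nat.card L = 44352000) :
    NC 5 3 L ∧ NC 5 7 L ∧ NC 5 11 L := by
  have : Finite L := Nat.finite_of_card_ne_zero (by rw [hN]; norm_num)
  obtain ⟨D, ψ, R⟩ := Cfsg.Agent.H904.HSCent.exists_rep h
  refine ⟨?_, ?_, ?_⟩
  · -- an element of order 3 fixes 10 of the 100 points
    have hin : InG Q s10 := by
      obtain ⟨g, hg, hgi⟩ := in10
      exact ⟨g, hg.1.1.1.1, hgi⟩
    obtain ⟨x, hx⟩ := R.exists_of hin
    have hx3 : orderOf x = 3 := R.orderOf_eq hx (by norm_num) (by decide +kernel) 2 (by decide +kernel)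
    have hc : (Finset.univ.filter fun i : Fin 100 => ψ x i = i).card = 10 := by
      rw [← card_fin_of_cntB (fun i => Nat.beq (lk s10 i) i) 100 10 (by decide +kernel)]
      congr 1
      apply Finset.filter_congr
      intro i _
      rw [Nat.beq_eq, ← hx i, Fin.ext_iff]
    refine nc_of_perm (by norm_num) (by norm_num) ψ (fun i j => ?_) (k := 2) (by norm_num) hx3 hc (by norm_num)
    obtain ⟨⟨g, hg⟩, hgij⟩ := trans_Q.exists_smul_eq i j
    obtain ⟨l, rfl⟩ := R.exists_of_mem hg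
    exact ⟨l, hgij⟩
  · obtain ⟨x, hx, hC⟩ := R.exists_seven
    refine (nc_of_card (q := 5) (by norm_num) (by norm_num) ⟨1, by rw [hx, pow_one]⟩ (a := 1)
      (by rw [hN]; norm_num) fun hd => ?_).symm
    have h7 : 7 ∣ Nat.card (centralizer ({x} : Set L)) := by
      rw [← hx, ← Subgroup.orderOf_mk x (mem_centralizer_singleton_iff.2 rfl)]
      exact _root_.orderOf_dvd_natCard _
    have h35 : 35 ∣ Nat.card (centralizer ({x} : Set L)) :=
      Nat.Coprime.mul_dvd_of_dvd_of_dvd (m := 5) (n := 7) (by norm_num) (by simpa only [_root_.pow_one] using hd) h7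
    have := Nat.le_of_dvd Nat.card_pos h35
    (clear * - hC this; omega)
  · obtain ⟨x, hx, hC⟩ := R.exists_eleven
    refine (nc_of_card (q := 5) (by norm_num) (by norm_num) ⟨1, by rw [hx, pow_one]⟩ (a := 1)
      (by rw [hN]; norm_num) fun hd => ?_).symm
    have h7 : 11 ∣ Nat.card (centralizer ({x} : Set L)) := by
      rw [← hx, ← Subgroup.orderOf_mk x (mem_centralizer_singleton_iff.2 rfl)]
      exact _root_.orderOf_dvd_natCard _
    have h35 : 55 ∣ Nat.card (centralizer ({x} : Set L)) :=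
      Nat.Coprime.mul_dvd_of_dvd_of_dvd (m := 5) (n := 11) (by norm_num) (by simpa only [_root_.pow_one] using hd) h7
    have := Nat.le_of_dvd Nat.card_pos h35
    omega

theorem row_hs {G : Type*} [Group G] [Finite G] [IsSimpleGroup G] (h : Spor.IsoHS G) : Row G := by
  have hN := NotCT.Orders.hs h
  obtain ⟨h3, h7, h11⟩ := hs_nc h hN
  refine row_of (N := 44352000) (k := 9) hN [3, 5, 7, 11] [5] [11] 3 [] ?_ ?_ ?_ ?_ ?_ ?_ ?_ ?_
  · decide
  · decide
  · decide
  · exact ab_of_not_cube (by norm_num) (by rw [hN]; norm_num)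
  · intro p hp q hq hpq
    obtain rfl := List.mem_singleton.1 hp
    simp only [List.mem_cons, List.not_mem_nil, or_false] at hq
    rcases hq with rfl | rfl | rfl | rfl
    · exact h3
    · exact absurd rfl hpq
    · exact h7
    · exact h11
  · intro r hr
    obtain rfl := List.mem_singleton.1 hr
    exact solv_of_na (by norm_num) (by rw [hN]; norm_num) (na_hs h)
  · intro a ha; exact absurd ha (by simp)
  · decide

/-! ### the McLaughlin group -/

section McL

open Cfsg.Agent.McLType.X275 Cfsg.Agent.McLType.Gens Cfsg.Agent.H904.McLCent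

/-- an element of order 3 with 14 fixed points -/
def t3 : ℕ := 0x448618e21f8360820c821a27c670f411c2bc5590b1323f86a09c1720f8430e7188444608a21de128730d61ae4146e8f518e1306003f08a3cc6f8f121e3c0210b721229c5e0b80963ac740a515c41c698c61d4420708ad1403d85304807038c460b6122228590901ee438588bf1f4340518401f62d0218d52143145a8891580e87f83b1602585d08711a22c808e41e4328688ec2202a4220e51f211c498d91764005089e1960f04c1031103241e8cd13a3f44d90c12e368830941b62a87008f1662484a8840fc208190280b0018358710300b41600a0cc1fc3a8260360540b87301a1b832004042184270810ce0883501205e1703284f0be134048360b61783d0760480782a8780d21440180501814c2d0411d23485e8c21f033c6f0dc092290770ed1504084283917c3304d04606e1883a0290661a0078630600082c82a0321e4070140e40d40981c0561dc3e8250620200e8570e01ec1181a0f80b8138800401b40886f03e0d0080600d8150008560a020c0380b0a40582e800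

theorem inT3 : InG K0 t3 := InG.word (L := [e_a, e_x]) (fun P hP => inAll P (by
  simp only [List.mem_cons, List.not_mem_nil, or_false] at hP
  simp only [e7, List.mem_cons, List.not_mem_nil, or_false]
  tauto)) (by decide +kernel)

theorem trans_mcl (i j : Fin 275) : ∃ g : G1, ψ g i = j := by
  obtain ⟨g, h1, h2, h3⟩ := (S1580.result u0 v0 sqNorm_u0 ⟨sqNorm_v0, norm_sub_v0⟩).2 (X i) (X_mem i) (X j) (X_mem j)
  exact ⟨⟨g, h1, h2⟩, X_injective ((X_ψ ⟨g, h1, h2⟩ i).trans h3)⟩

theorem mcl_nc {L : Type u} [Group L] (h : Cfsg.Spor.IsoMcL L) (hN : Nat.card L = 898128000) :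
    NC 3 5 L ∧ NC 3 7 L ∧ NC 3 11 L ∧ NC 5 7 L ∧ NC 5 11 L := by
  have : Finite L := Nat.finite_of_card_ne_zero (by rw [hN]; norm_num)
  obtain ⟨θ, R⟩ := exists_rep h
  -- centralizers of elements of order 7, 11
  have key : ∀ (r c s : ℕ), r.Prime → s.Prime → r ≠ s → s ∣ Nat.card L → r ∣ Nat.card L → ¬ s ∣ c →
      (∀ P : Subgroup L, Nat.card P = r → Nat.card (centralizer (P : Set L)) ∣ c) → NC s r L := by
    intro r c s hr hs hrs hd hdr hsc H
    have : Fact r.Prime := ⟨hr⟩
    obtain ⟨x, hx⟩ := exists_prime_orderOf_dvd_card' r hdr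
    refine (nc_of_dvd hs hrs hx (a := 1) (n := c) (by rwa [pow_one]) ?_ (by rwa [pow_one])).symm
    have h1 := H (zpowers x) (by rw [Nat.card_zpowers, hx])
    have h2 : centralizer ((zpowers x : Subgroup L) : Set L) = centralizer ({x} : Set L) := by
      rw [zpowers_eq_closure, centralizer_closure]
    rwa [h2] at h1
  refine ⟨?_, ?_, ?_, ?_, ?_⟩
  · obtain ⟨x, hx⟩ := R.exists_of inT3
    have hx3 : orderOf x = 3 := R.orderOf_eq hx (by norm_num) (by decide +kernel) 1 (by decide +kernel)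
    have hc : (Finset.univ.filter fun i : Fin 275 => θ x i = i).card = 14 := by
      rw [← card_fin_of_cntB (fun i => Nat.beq (lk t3 i) i) 275 14 (by decide +kernel)]
      congr 1
      apply Finset.filter_congr
      intro i _
      rw [Nat.beq_eq, ← hx i, Fin.ext_iff]
    refine (nc_of_perm (p := 5) (by norm_num) (by norm_num) θ (fun i j => ?_) (k := 2) (by norm_num) hx3 hc
      (by norm_num)).symm
    obtain ⟨g, hg⟩ := trans_mcl i j
    have h1 : ψ g ∈ θ.range := by
      rw [R.range, ← range_ψ]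
      exact ⟨g, rfl⟩
    obtain ⟨l, hl⟩ := h1
    exact ⟨l, by rw [hl, hg]⟩
  · exact key 7 14 3 (by norm_num) (by norm_num) (by norm_num) (by rw [hN]; norm_num) (by rw [hN]; norm_num)
      (by norm_num) fun P hP => (seven h P hP).1
  · exact key 11 11 3 (by norm_num) (by norm_num) (by norm_num) (by rw [hN]; norm_num) (by rw [hN]; norm_num)
      (by norm_num) fun P hP => by rw [(eleven h P hP).1]
  · exact key 7 14 5 (by norm_num) (by norm_num) (by norm_num) (by rw [hN]; norm_num) (by rw [hN]; norm_num)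
      (by norm_num) fun P hP => (seven h P hP).1
  · exact key 11 11 5 (by norm_num) (by norm_num) (by norm_num) (by rw [hN]; norm_num) (by rw [hN]; norm_num)
      (by norm_num) fun P hP => by rw [(eleven h P hP).1]

end McL

theorem row_mcl {G : Type*} [Group G] [Finite G] [IsSimpleGroup G] (h : Spor.IsoMcL G) : Row G := by
  have hN := NotCT.Orders.mcl h
  obtain ⟨h35, h37, h311, h57, h511⟩ := mcl_nc h hN
  refine row_of (N := 898128000) (k := 7) hN [3, 5, 7, 11] [3, 5] [] 7 [] ?_ ?_ ?_ ?_ ?_ ?_ ?_ ?_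
  · decide
  · decide
  · decide
  · exact ab_of_not_cube (by norm_num) (by rw [hN]; norm_num)
  · intro p hp q hq hpq
    simp only [List.mem_cons, List.not_mem_nil, or_false] at hp hq
    rcases hp with rfl | rfl
    · rcases hq with rfl | rfl | rfl | rfl
      · exact absurd rfl hpq
      · exact h35
      · exact h37
      · exact h311
    · rcases hq with rfl | rfl | rfl | rfl
      · exact h35.symm
      · exact absurd rfl hpq
      · exact h57
      · exact h511
  · intro r hr; exact absurd hr (by simp)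
  · intro a ha; exact absurd ha (by simp)
  · decide

end Cfsg.Agent.H846.NHRows
end

-- part: H981/NHJanko
section
/-!
# Rows of the nilpotent Hall cluster: `J₁`, `J₂`, `J₃` (helper981, for helper241)
-/

set_option autoImplicit false
open Cfsg Subgroup

namespace Cfsg.Agent.H981.NH

open Cfsg.Agent.H630.NH Cfsg.Agent.H241.NH Cfsg.Agent.H393.Iso

universe u

theorem na_j1_model [Finite Spor.J1] {r : ℕ} (hr : ¬ r ∣ 120) : NA r Spor.J1 :=
  NA.of_card fun t ht => by
    rw [SporRec.J1.EqTopC.card_cent2 H413.JOneLocal.isLocal t ht]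
    exact hr

theorem na_j1' {G : Type*} [Group G] [Finite G] (h : Spor.IsoJ1 G) {r : ℕ} (hr : ¬ r ∣ 120) : NA r G :=
  h.elim fun e =>
    have := Finite.of_equiv G e.toEquiv
    (na_j1_model hr).of_equiv e.symm

theorem row_j1 {G : Type*} [Group G] [Finite G] [IsSimpleGroup G] (h : Spor.IsoJ1 G) : Row G := by
  have hN := NotCT.Orders.j1 h
  refine row_of (N := 175560) (k := 3) hN [3, 5, 7, 11, 19] [] [7, 11, 19] 3 [] ?_ ?_ ?_ ?_ ?_ ?_ ?_ ?_
  · decide
  · decide
  · decide
  · exact ab_of_not_cube (by norm_num) (by rw [hN]; norm_num)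
  · intro p hp; exact absurd hp (by simp)
  · intro r hr
    simp only [List.mem_cons, List.not_mem_nil, or_false] at hr
    rcases hr with rfl | rfl | rfl
    · exact solv_of_na (by norm_num) (by rw [hN]; norm_num) (na_j1' h (by norm_num))
    · exact solv_of_na (by norm_num) (by rw [hN]; norm_num) (na_j1' h (by norm_num))
    · exact solv_of_na (by norm_num) (by rw [hN]; norm_num) (na_j1' h (by norm_num))
  · intro a ha; exact absurd ha (by simp)
  · decide

theorem row_j2 {G : Type*} [Group G] [Finite G] [IsSimpleGroup G] (h : Spor.IsoJ2 G) : Row G := by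
  have hN := NotCT.Orders.j2 h
  obtain ⟨t, u, Q, v, ρ, D⟩ := Cfsg.Agent.KFacts.J2.Facts.exists_dat_of h
  obtain ⟨a, b, -, hb, -, hcb, -, -⟩ := Cfsg.Agent.J2Type.ThreeF.main D.F
  refine row_of (N := 604800) (k := 7) hN [3, 5, 7] [3] [] 5 [] ?_ ?_ ?_ ?_ ?_ ?_ ?_ ?_
  · decide
  · decide
  · decide
  · exact ab_of_not_cube (by norm_num) (by rw [hN]; norm_num)
  · intro p hp q hq hpq
    obtain rfl := List.mem_singleton.1 hp
    simp only [List.mem_cons, List.not_mem_nil, or_false] at hq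
    rcases hq with rfl | rfl | rfl
    · exact absurd rfl hpq
    · exact nc_of_card (a := 1) (by norm_num) (by norm_num) ⟨1, by rw [hb, pow_one]⟩ (by rw [hN]; norm_num)
        (by rw [hcb]; norm_num)
    · exact nc_of_card (a := 1) (by norm_num) (by norm_num) ⟨1, by rw [hb, pow_one]⟩ (by rw [hN]; norm_num)
        (by rw [hcb]; norm_num)
  · intro r hr; exact absurd hr (by simp)
  · intro a ha; exact absurd ha (by simp)
  · decide

theorem row_j3 {G : Type u} [Group G] [Finite G] [IsSimpleGroup G] (h : Spor.IsoJ3 G) : Row G := by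
  have hN := NotCT.Orders.j3 h
  have h17 : Fact (Nat.Prime 17) := ⟨by norm_num⟩
  have h19 : Fact (Nat.Prime 19) := ⟨by norm_num⟩
  refine row_of (N := 50232960) (k := 7) hN [3, 5, 17, 19] [3] [19] 5 [] ?_ ?_ ?_ ?_ ?_ ?_ ?_ ?_
  · decide
  · decide
  · decide
  · exact ab_of_not_cube (by norm_num) (by rw [hN]; norm_num)
  · intro p hp q hq hpq
    obtain rfl := List.mem_singleton.1 hp
    simp only [List.mem_cons, List.not_mem_nil, or_false] at hq
    rcases hq with rfl | rfl | rfl | rfl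
    · exact absurd rfl hpq
    · obtain ⟨y, hy, hc⟩ := H724.IMJThree.exists_five h
      exact (nc_of_card (p := 5) (q := 3) (a := 5) (by norm_num) (by norm_num) ⟨1, by rw [hy, pow_one]⟩
        (by rw [hN]; norm_num) (by rw [hc]; norm_num)).symm
    · obtain ⟨y, hy⟩ := exists_prime_orderOf_dvd_card' (G := G) 17 (by rw [hN]; norm_num)
      exact (nc_of_card (p := 17) (q := 3) (a := 1) (by norm_num) (by norm_num) ⟨1, by rw [hy, pow_one]⟩
        (by rw [hN]; norm_num) (by rw [(H898.J3Cent.seventeen h hy).1]; norm_num)).symm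
    · obtain ⟨y, hy⟩ := exists_prime_orderOf_dvd_card' (G := G) 19 (by rw [hN]; norm_num)
      exact (nc_of_card (p := 19) (q := 3) (a := 1) (by norm_num) (by norm_num) ⟨1, by rw [hy, pow_one]⟩
        (by rw [hN]; norm_num) (by rw [H898.J3Cent.card_nineteen h hy]; norm_num)).symm
  · intro r hr
    obtain rfl := List.mem_singleton.1 hr
    exact solv_of_na (by norm_num) (by rw [hN]; norm_num) (na_j3 h)
  · intro a ha; exact absurd ha (by simp)
  · decide

end Cfsg.Agent.H981.NH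
end

-- part: H164/LyNHa
section
/-!
# Tools for the nilpotent Hall row of `Ly`

* `comm_of_inv` : an involution `t` with `4 ∤ |C(t)|`, commuting with no element of order `p`: `p`-subgroups are abelian;
* `nc_of_invol` : `NC p q` from an element of order `q` and an involution;
* `fr_lift` : Frobenius relations lift through double covers of alternating groups.
-/

set_option autoImplicit false

open Subgroup

namespace Cfsg.Agent.H164.LyNH

open Cfsg.Agent.H241.NH Cfsg.Agent.H630.NH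

/-- An involution `t` with `4 ∤ |C(t)|` which commutes with no element of order `p`: all `p`-subgroups are abelian. -/
theorem comm_of_inv {K : Type*} [Group K] [Finite K] {t : K} (ht : t * t = 1) (ht1 : t ≠ 1)
    (hC : ¬ 4 ∣ Nat.card (centralizer ({t} : Set K))) {p : ℕ} [hp : Fact p.Prime] (hp2 : p ≠ 2)
    (hfix : ∀ x : K, orderOf x = p → t * x ≠ x * t) (A : Subgroup K) (hA : IsPGroup p A) :
    ∀ a ∈ A, ∀ b ∈ A, a * b = b * a := by
  obtain ⟨N, hNn, hodd, hidx, hmem⟩ := Cfsg.Agent.Lib.InvolutionKernel.exists_odd_index_two ht ht1 hC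
  have hoddp : ∀ {B : Subgroup K}, IsPGroup p B → ∀ b ∈ B, Odd (orderOf b) := by
    intro B hB b hb
    obtain ⟨k, hk⟩ := IsPGroup.iff_orderOf.1 hB ⟨b, hb⟩
    rw [Subgroup.orderOf_mk] at hk
    rw [hk]
    exact (hp.out.odd_of_ne_two hp2).pow
  have hAN : A ≤ N := fun a ha => (hmem a).2 (hoddp hA a ha)
  have hT : IsPGroup 2 (zpowers t) := by
    refine IsPGroup.of_card (n := 1) ?_
    rw [Nat.card_zpowers, pow_one]
    exact orderOf_eq_prime (by rw [pow_two, ht]) ht1
  obtain ⟨S, ⟨T, hTS⟩, hS⟩ := Cfsg.Agent.Lib.PGroupCoprimeAction.exists_invariant_sylow hT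
    (H := N) (by rw [← even_iff_two_dvd, Nat.not_even_iff_odd]; exact hodd)
    (fun b _ u hu => hNn.conj_mem u hu b) p
  have hSp : IsPGroup p S := by
    rw [← hTS]
    exact T.2.map _
  have hti : t⁻¹ = t := inv_eq_of_mul_eq_one_right ht
  -- `t` acts on `S` without fixed points
  let φ : S →* S :=
    { toFun := fun u => ⟨t * u * t⁻¹, hS t (mem_zpowers t) u u.2⟩
      map_one' := Subtype.ext (by simp)
      map_mul' := fun u v => Subtype.ext (by
        show t * (u * v) * t⁻¹ = t * u * t⁻¹ * (t * v * t⁻¹)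
        group) }
  have hφ : MonoidHom.FixedPointFree φ := by
    intro u hu
    by_contra hu1
    have h1 : t * (u : K) * t⁻¹ = u := congrArg Subtype.val hu
    obtain ⟨k, hk⟩ := IsPGroup.iff_orderOf.1 hSp u
    have hk0 : k ≠ 0 := by
      rintro rfl
      rw [pow_zero, orderOf_eq_one_iff] at hk
      exact hu1 hk
    obtain ⟨j, rfl⟩ := Nat.exists_eq_succ_of_ne_zero hk0
    have h2 : orderOf ((u : K) ^ p ^ j) = p := by
      rw [orderOf_pow_of_dvd (pow_ne_zero _ hp.out.ne_zero), orderOf_coe, hk, Nat.pow_succ,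
        Nat.mul_div_cancel_left _ (pow_pos hp.out.pos _)]
      rw [orderOf_coe, hk]
      exact pow_dvd_pow p (Nat.le_succ j)
    refine hfix _ h2 ?_
    have h3 : Commute t (u : K) := by
      show t * (u : K) = u * t
      rw [mul_inv_eq_iff_eq_mul] at h1
      exact h1
    exact (h3.pow_right _).eq
  have hinv : Function.Involutive φ := by
    intro u
    apply Subtype.ext
    show t * (t * (u : K) * t⁻¹) * t⁻¹ = u
    rw [hti]
    calc t * (t * (u : K) * t) * t = (t * t) * u * (t * t) := by group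
      _ = u := by rw [ht, one_mul, mul_one]
  have hcomm := fun u v : S => hφ.commute_all_of_involutive hinv u v
  -- transport to `A`
  have hA' : IsPGroup p (A.subgroupOf N) := hA.comap_of_injective N.subtype (subtype_injective N)
  obtain ⟨T', hT'⟩ := hA'.exists_le_sylow
  obtain ⟨n, hn⟩ := MulAction.exists_smul_eq N T' T
  have key : ∀ a ∈ A, (n : K) * a * (n : K)⁻¹ ∈ S := by
    intro a ha
    have h1 : (⟨a, hAN ha⟩ : N) ∈ (T' : Subgroup N) := hT' ha
    have h2 : n * ⟨a, hAN ha⟩ * n⁻¹ ∈ (T : Subgroup N) := by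
      rw [← hn]
      exact Subgroup.smul_mem_pointwise_smul (m := (⟨a, hAN ha⟩ : N)) (a := MulAut.conj n) (S := (T' : Subgroup N)) h1
    rw [← hTS]
    exact ⟨_, h2, rfl⟩
  intro a ha b hb
  have h1 := congrArg Subtype.val (hcomm ⟨_, key a ha⟩ ⟨_, key b hb⟩).eq
  have h2 : (n : K) * a * (n : K)⁻¹ * ((n : K) * b * (n : K)⁻¹) =
    (n : K) * b * (n : K)⁻¹ * ((n : K) * a * (n : K)⁻¹) := h1
  have h3 : (n : K) * (a * b) * (n : K)⁻¹ = (n : K) * (b * a) * (n : K)⁻¹ := by
    calc (n : K) * (a * b) * (n : K)⁻¹ = (n : K) * a * (n : K)⁻¹ * ((n : K) * b * (n : K)⁻¹) := by group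
      _ = _ := h2
      _ = (n : K) * (b * a) * (n : K)⁻¹ := by group
  exact mul_left_cancel (mul_right_cancel h3)

/-- `NC p q` from an element `y` of order `q`, an involution commuting with it and a nonabelian `p`-group; the Sylow
`q`-subgroups have order `q`. -/
theorem nc_of_invol {X : Type*} [Group X] [Finite X] {p q : ℕ} (hp : p.Prime) (hq : q.Prime) (hpq : p ≠ q) (hp2 : p ≠ 2)
    (hd : q ∣ Nat.card X) (hq2 : ¬ q ^ 2 ∣ Nat.card X) {y t : X} (hy : orderOf y = q) (ht : t * t = 1) (ht1 : t ≠ 1)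
    (hty : t * y = y * t)
    (h4 : ¬ 4 ∣ Nat.card (centralizer ({t} : Set X) ⊓ centralizer ({y} : Set X) : Subgroup X))
    (hpc : ¬ p ∣ Nat.card (centralizer ({t} : Set X) ⊓ centralizer ({y} : Set X) : Subgroup X))
    (A : Subgroup X) (hA : IsPGroup p A) {a b : X} (ha : a ∈ A) (hb : b ∈ A) (hab : a * b ≠ b * a) : NC p q X := by
  have hFp : Fact p.Prime := ⟨hp⟩
  have hFq : Fact q.Prime := ⟨hq⟩
  refine nc_of_group hp hq hpq hd A hA fun y' hy' hc => hab ?_
  -- `y'` is conjugate to a generator of `⟨y⟩`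
  obtain ⟨g, hg⟩ : ∃ g : X, ∃ i : ℤ, g * y' * g⁻¹ = y ^ i := by
    have h1 : IsPGroup q (zpowers y) := IsPGroup.of_card (n := 1) (by rw [Nat.card_zpowers, hy, pow_one])
    have h2 : IsPGroup q (zpowers y') := IsPGroup.of_card (n := 1) (by rw [Nat.card_zpowers, hy', pow_one])
    obtain ⟨Q, hQ⟩ := h1.exists_le_sylow
    obtain ⟨Q', hQ'⟩ := h2.exists_le_sylow
    have hQc : Nat.card (Q : Subgroup X) ≤ q := by
      obtain ⟨k, hk⟩ := IsPGroup.iff_card.1 Q.2
      rw [hk]
      have h4 : k < 2 := by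
        by_contra hk2
        refine hq2 ((Nat.pow_dvd_pow q (not_lt.1 hk2)).trans ?_)
        rw [← hk]; exact card_subgroup_dvd_card _
      calc q ^ k ≤ q ^ 1 := Nat.pow_le_pow_right hq.pos (by omega)
        _ = q := pow_one q
    have hQe : (Q : Subgroup X) = zpowers y := by
      symm
      refine Subgroup.eq_of_le_of_card_ge hQ ?_
      rw [Nat.card_zpowers, hy]
      exact hQc
    obtain ⟨g, hg⟩ := MulAction.exists_smul_eq X Q' Q
    have h5 : g * y' * g⁻¹ ∈ (Q : Subgroup X) := by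
      rw [← hg]
      exact Subgroup.smul_mem_pointwise_smul (m := y') (a := MulAut.conj g) (S := (Q' : Subgroup X))
        (hQ' (mem_zpowers y'))
    rw [hQe] at h5
    obtain ⟨i, hi⟩ := h5
    exact ⟨g, i, hi.symm⟩
  obtain ⟨i, hi⟩ := hg
  -- `y` is a power of the conjugate
  have hy1 : y ∈ zpowers (g * y' * g⁻¹) := by
    have h1 : g * y' * g⁻¹ ∈ zpowers y := by rw [hi]; exact zpow_mem (mem_zpowers y) i
    have h2 : zpowers (g * y' * g⁻¹) = zpowers y := by
      refine Subgroup.eq_of_le_of_card_ge (by rwa [zpowers_le]) ?_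
      rw [Nat.card_zpowers, Nat.card_zpowers, hy]
      have h3 : orderOf (g * y' * g⁻¹) = q := by
        rw [← hy']; exact MulEquiv.orderOf_eq (MulAut.conj g) y'
      rw [h3]
    rw [h2]
    exact mem_zpowers y
  -- the conjugate of `A` centralises `y`
  have hAc : ∀ c ∈ A, (g * c * g⁻¹) * y = y * (g * c * g⁻¹) := by
    intro c hcA
    obtain ⟨j, hj⟩ := hy1
    have h1 : Commute (g * c * g⁻¹) (g * y' * g⁻¹) := by
      show g * c * g⁻¹ * (g * y' * g⁻¹) = g * y' * g⁻¹ * (g * c * g⁻¹)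
      have := hc c hcA
      calc g * c * g⁻¹ * (g * y' * g⁻¹) = g * (c * y') * g⁻¹ := by group
        _ = g * (y' * c) * g⁻¹ := by rw [this]
        _ = _ := by group
    have h2 := (h1.zpow_right j).eq
    have h3 : (g * y' * g⁻¹) ^ j = y := hj
    rw [h3] at h2
    exact h2
  set K := centralizer ({y} : Set X) with hK
  let tK : K := ⟨t, mem_centralizer_singleton_iff.2 hty⟩
  -- the centraliser of `t` in `K`
  have hle : ∀ d : ℕ, d ∣ Nat.card (centralizer ({tK} : Set K)) →
      d ∣ Nat.card (centralizer ({t} : Set X) ⊓ centralizer ({y} : Set X) : Subgroup X) := by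
    intro d hd
    refine hd.trans ?_
    rw [← card_map_of_injective (f := K.subtype) (subtype_injective K)]
    apply card_dvd_of_le
    rintro _ ⟨u, hu, rfl⟩
    refine mem_inf.2 ⟨?_, u.2⟩
    rw [mem_centralizer_singleton_iff]
    exact congrArg Subtype.val (mem_centralizer_singleton_iff.1 hu)
  have hcomm := comm_of_inv (K := K) (t := tK) (Subtype.ext ht) (fun h => ht1 (congrArg Subtype.val h))
    (fun h => h4 (hle 4 h)) hp2 (fun x hx hc => hpc (hle p (by
      have hxm : x ∈ centralizer ({tK} : Set K) := mem_centralizer_singleton_iff.2 hc.symm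
      rw [← hx, ← Subgroup.orderOf_mk x hxm]
      exact _root_.orderOf_dvd_natCard _)))
    ((A.map (MulAut.conj g).toMonoidHom).subgroupOf K) ((hA.map _).comap_of_injective K.subtype (subtype_injective K))
  have h1 := hcomm ⟨g * a * g⁻¹, mem_centralizer_singleton_iff.2 (hAc a ha)⟩
    (mem_subgroupOf.2 ⟨a, ha, rfl⟩) ⟨g * b * g⁻¹, mem_centralizer_singleton_iff.2 (hAc b hb)⟩
    (mem_subgroupOf.2 ⟨b, hb, rfl⟩)
  have h2 : g * a * g⁻¹ * (g * b * g⁻¹) = g * b * g⁻¹ * (g * a * g⁻¹) := congrArg Subtype.val h1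
  have h3 : g * (a * b) * g⁻¹ = g * (b * a) * g⁻¹ := by
    calc g * (a * b) * g⁻¹ = g * a * g⁻¹ * (g * b * g⁻¹) := by group
      _ = _ := h2
      _ = g * (b * a) * g⁻¹ := by group
  exact mul_left_cancel (mul_right_cancel h3)

open Cfsg.Agent.SporRec.TwoAn Equiv in
/-- Frobenius relations lift through double covers of alternating groups. -/
theorem fr_lift {n : ℕ} {C : Type*} [Group C] (K : Cover (Fin n) C) {p q : ℕ} (hp : p.Prime) (hq : q.Prime)
    (hp2 : p ≠ 2) (hq2 : q ≠ 2) {σ τ : Perm (Fin n)} (hσ : Perm.sign σ = 1) (hτ : Perm.sign τ = 1) (hσp : σ ^ p = 1)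
    (hτq : τ ^ q = 1) {m : ℕ} (hm : σ * τ * σ⁻¹ = τ ^ m) (hne : σ * τ ≠ τ * σ) : Fr p q C := by
  have lift : ∀ (r : ℕ), Odd r → ∀ ρ : Perm (Fin n), Perm.sign ρ = 1 → ρ ^ r = 1 → ∃ u : C, K.π u = ρ ∧ u ^ r = 1 := by
    intro r hr ρ hρ hρr
    have h1 : ρ ∈ K.π.range := by rw [K.range_eq]; exact Perm.mem_alternatingGroup.2 hρ
    obtain ⟨u, rfl⟩ := h1
    have h2 : K.π (u ^ r) = 1 := by rw [map_pow, hρr]
    have h3 : (u ^ r) ^ 2 = 1 := by
      rcases (K.ker _).1 h2 with h | h
      · rw [h, one_pow]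
      · rw [h]; exact K.z_pow_two
    refine ⟨u ^ (r + 1), ?_, ?_⟩
    · rw [map_pow, pow_succ, hρr, one_mul]
    · obtain ⟨k, hk⟩ := hr
      have : (r + 1) * r = r * 2 * (k + 1) := by rw [hk]; ring
      rw [← pow_mul, this, pow_mul, pow_mul, h3, one_pow]
  obtain ⟨u, hu, hup⟩ := lift p (hp.odd_of_ne_two hp2) σ hσ hσp
  obtain ⟨y, hy, hyq⟩ := lift q (hq.odd_of_ne_two hq2) τ hτ hτq
  have hz : ∀ g, g * K.z = K.z * g := K.z_comm
  have hrel : u * y * u⁻¹ = y ^ m := by
    have h1 : K.π (u * y * u⁻¹ * (y ^ m)⁻¹) = 1 := by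
      rw [map_mul, map_mul, map_mul, map_inv, map_inv, map_pow, hu, hy, hm, mul_inv_cancel]
    rcases (K.ker _).1 h1 with h | h
    · exact mul_inv_eq_one.1 h
    · exfalso
      have h2 : u * y * u⁻¹ = K.z * y ^ m := mul_inv_eq_iff_eq_mul.1 h
      have h3 : (u * y * u⁻¹) ^ q = 1 := by rw [conj_pow, hyq, mul_one, mul_inv_cancel]
      rw [h2, (show Commute K.z (y ^ m) from (hz _).symm).mul_pow, ← pow_mul, mul_comm m q, pow_mul, hyq, one_pow,
        mul_one] at h3
      have h4 := orderOf_dvd_of_pow_eq_one h3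
      rw [K.orderOf_z] at h4
      exact hq2 ((Nat.prime_dvd_prime_iff_eq Nat.prime_two hq).1 h4).symm
  refine fr_of_rel hp hq hup hyq hrel ?_
  intro h
  apply hne
  rw [← hu, ← hy, ← map_mul, ← map_mul, h]

end Cfsg.Agent.H164.LyNH
end

-- part: H164/LyNHb
section
/-!
# Row of the nilpotent Hall cluster: `Ly`
-/

set_option autoImplicit false
set_option maxRecDepth 100000

open Subgroup

namespace Cfsg.Agent.H164.LyNH

open Cfsg Cfsg.Agent.H241.NH Cfsg.Agent.H630.NH Cfsg.Agent.H393.Iso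
open Cfsg.Agent.Ly.Mat7 Cfsg.Agent.Ly.Pres Cfsg.Agent.Ly.WalkCtx Cfsg.Agent.Ly.McL.Main Cfsg.Agent.Ly.McL
  Cfsg.Agent.Ly.Cover Cfsg.Agent.Ly.McL.Cosets

/-! ### Elements commuting with a regular unipotent element -/

section

variable {n : ℕ}

theorem pow_sub_mulVec {Y N : Matrix (Fin n) (Fin n) (ZMod 5)} (hc : Y * N = N * Y) {e : Fin n → ZMod 5} (he : e ≠ 0)
    (hNe : N.mulVec e = 0) (hker : ∀ v, N.mulVec v = 0 → ∃ c : ZMod 5, v = c • e) {k : ℕ} (hk : 0 < k) (hY : Y ^ k = 1)
    (i : ℕ) : ∀ v : Fin n → ZMod 5, (N ^ i).mulVec v = 0 → ((Y ^ 4 - 1) ^ i).mulVec v = 0 := by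
  have : Fact (Nat.Prime 5) := ⟨by norm_num⟩
  -- `Y` acts on `e` as a scalar
  obtain ⟨c, hYe⟩ := hker (Y.mulVec e) (by
    rw [Matrix.mulVec_mulVec, ← hc, ← Matrix.mulVec_mulVec, hNe, Matrix.mulVec_zero])
  have hpow : ∀ j : ℕ, (Y ^ j).mulVec e = c ^ j • e := by
    intro j
    induction j with
    | zero => simp
    | succ j ih => rw [pow_succ, ← Matrix.mulVec_mulVec, hYe, Matrix.mulVec_smul, ih, smul_smul, pow_succ, mul_comm]
  have hc0 : c ≠ 0 := by
    rintro rfl
    have h1 := hpow k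
    rw [hY, Matrix.one_mulVec, zero_pow hk.ne', zero_smul] at h1
    exact he h1
  have h4 : (Y ^ 4 - 1).mulVec e = 0 := by
    have h5 : c ^ 4 = 1 := ZMod.pow_card_sub_one_eq_one hc0
    rw [Matrix.sub_mulVec, hpow, h5, one_smul, Matrix.one_mulVec, sub_self]
  have hker' : ∀ v, N.mulVec v = 0 → (Y ^ 4 - 1).mulVec v = 0 := by
    intro v hv
    obtain ⟨d, rfl⟩ := hker v hv
    rw [Matrix.mulVec_smul, h4, smul_zero]
  have hcomm : ∀ j : ℕ, (Y ^ 4 - 1) * N ^ j = N ^ j * (Y ^ 4 - 1) := by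
    intro j
    have h1 : Commute Y N := hc
    exact ((h1.pow_left 4).sub_left (Commute.one_left N)).pow_right j
  induction i with
  | zero =>
    intro v hv
    rw [pow_zero, Matrix.one_mulVec] at hv ⊢
    exact hv
  | succ i ih =>
    intro v hv
    rw [pow_succ, ← Matrix.mulVec_mulVec]
    apply ih
    rw [Matrix.mulVec_mulVec, ← hcomm, ← Matrix.mulVec_mulVec]
    apply hker'
    rw [Matrix.mulVec_mulVec, ← pow_succ']
    exact hv

theorem pow_hundred {Y N : Matrix (Fin 7) (Fin 7) (ZMod 5)} (hc : Y * N = N * Y) {e : Fin 7 → ZMod 5} (he : e ≠ 0)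
    (hNe : N.mulVec e = 0) (hker : ∀ v, N.mulVec v = 0 → ∃ c : ZMod 5, v = c • e) (hN : N ^ 7 = 0) {k : ℕ} (hk : 0 < k)
    (hY : Y ^ k = 1) : Y ^ 100 = 1 := by
  have : Fact (Nat.Prime 5) := ⟨by norm_num⟩
  have h1 : (Y ^ 4 - 1) ^ 7 = 0 := by
    apply Matrix.ext_of_mulVec_single
    intro i
    rw [pow_sub_mulVec hc he hNe hker hk hY 7 _ (by rw [hN, Matrix.zero_mulVec]), Matrix.zero_mulVec]
  have h2 : (Y ^ 4 - 1) ^ 5 ^ 2 = 0 := by
    have : (5 : ℕ) ^ 2 = 7 + 18 := by norm_num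
    rw [this, pow_add, h1, zero_mul]
  rw [sub_pow_char_pow_of_commute (p := 5) (h := Commute.one_right (Y ^ 4)), one_pow, sub_eq_zero, ← pow_mul] at h2
  exact h2

end

/-- the word of a regular unipotent element of `G₂(5)` -/
def uw : List ℕ := [1, 4, 2, 0]

/-- its matrix -/
def Um : Matrix (Fin 7) (Fin 7) (ZMod 5) :=
  !![1, 0, 0, 2, 1, 2, 1; 1, 1, 4, 2, 0, 3, 4; 0, 0, 1, 0, 0, 4, 4; 0, 0, 1, 1, 0, 4, 0; 0, 0, 1, 2, 1, 3, 1;
    0, 0, 0, 0, 0, 1, 0; 0, 0, 0, 0, 0, 1, 1]

/-- the nilpotent part -/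
def Nm : Matrix (Fin 7) (Fin 7) (ZMod 5) :=
  !![0, 0, 0, 2, 1, 2, 1; 1, 0, 4, 2, 0, 3, 4; 0, 0, 0, 0, 0, 4, 4; 0, 0, 1, 0, 0, 4, 0; 0, 0, 1, 2, 0, 3, 1;
    0, 0, 0, 0, 0, 0, 0; 0, 0, 0, 0, 0, 1, 0]

/-- an almost left inverse of `Nm` -/
def Cm : Matrix (Fin 7) (Fin 7) (ZMod 5) :=
  !![0, 1, 3, 2, 4, 0, 0; 0, 0, 0, 0, 0, 0, 0; 0, 0, 0, 1, 0, 0, 1; 0, 0, 3, 2, 3, 0, 1; 1, 0, 0, 1, 4, 0, 2;
    0, 0, 0, 0, 0, 0, 1; 0, 0, 4, 0, 0, 0, 4]

/-- decidable equality -/
local instance decZFive : DecidableEq (ZMod 5) := inferInstanceAs (DecidableEq (Fin 5))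

theorem Um_eq : ((ev gen uw : GL (Fin 7) (ZMod 5)) : Matrix (Fin 7) (Fin 7) (ZMod 5)) = Um := by
  have h1 := (evalK_spec uw oneN_ok).2
  rw [toM_oneN, Matrix.one_mul] at h1
  rw [← h1]
  decide +kernel

theorem Nm_eq : Um = Nm + 1 := by decide +kernel

theorem Cm_mul : Cm * Nm = 1 - Matrix.vecMulVec (Pi.single 1 1) (Pi.single 1 1) := by decide +kernel

theorem Nm_pow : Nm ^ 7 = 0 := by
  have h2 : Nm ^ 7 = Nm * Nm * (Nm * Nm) * (Nm * Nm * Nm) := by
    simp only [pow_succ, pow_zero, one_mul, mul_assoc]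
  rw [h2]
  decide +kernel

theorem Nm_single : Nm.mulVec (Pi.single 1 1) = 0 := by decide +kernel

theorem single_ne : (Pi.single 1 1 : Fin 7 → ZMod 5) ≠ 0 := by decide +kernel

theorem Nm_ker (v : Fin 7 → ZMod 5) (hv : Nm.mulVec v = 0) : ∃ c : ZMod 5, v = c • (Pi.single 1 1 : Fin 7 → ZMod 5) := by
  have h1 : (Cm * Nm).mulVec v = 0 := by rw [← Matrix.mulVec_mulVec, hv, Matrix.mulVec_zero]
  rw [Cm_mul, Matrix.sub_mulVec, Matrix.one_mulVec, sub_eq_zero] at h1
  refine ⟨v 1, ?_⟩
  conv_lhs => rw [h1]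
  ext i
  rw [Matrix.vecMulVec_mulVec]
  simp [mul_comm]

/-- An element of finite order of `GL₇(5)` commuting with the regular unipotent element has order dividing 100. -/
theorem pow_hundred_of_commute {Y : GL (Fin 7) (ZMod 5)} (h : Y * ev gen uw = ev gen uw * Y) : Y ^ 100 = 1 := by
  have h1 : (Y : Matrix (Fin 7) (Fin 7) (ZMod 5)) * Um = Um * Y := by
    have := congrArg Units.val h
    rwa [Units.val_mul, Units.val_mul, Um_eq] at this
  rw [Nm_eq, mul_add, add_mul, mul_one, one_mul, add_left_inj] at h1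
  have h2 : (Y : Matrix (Fin 7) (Fin 7) (ZMod 5)) ^ orderOf Y = 1 := by
    rw [← Units.val_pow_eq_pow_val, pow_orderOf_eq_one, Units.val_one]
  have h3 := pow_hundred h1 single_ne Nm_single Nm_ker Nm_pow (orderOf_pos Y) h2
  apply Units.ext
  rw [Units.val_pow_eq_pow_val, h3, Units.val_one]

/-! ### The centraliser of a Sylow 5-subgroup -/

/-- the data -/
noncomputable abbrev D : Cfsg.Agent.Ly.Upper.Data gens := Cfsg.Agent.Ly.Index.data

theorem cardLy : Nat.card Spor.Ly = 51765179004000000 := Cfsg.Agent.Ly.Setup.card_ly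

theorem nn_dvd : ∀ j : Fin 5, 5 ^ 6 ∣ nn j → j = 0 := by decide +kernel

/-- An element centralising a subgroup of order divisible by `5 ^ 6` of `HH` lies in `HH`. -/
theorem mem_HH_of_comm (A : Subgroup Spor.Ly) (hA : A ≤ HH gens) (h5 : 5 ^ 6 ∣ Nat.card A) {g : Spor.Ly}
    (hg : ∀ a ∈ A, a * g = g * a) : g ∈ HH gens := by
  have hfin : Finite Spor.Ly := Cfsg.Agent.Ly.Setup.finite_ly
  obtain ⟨i, hi, h1, hh1, h2, hh2, hw⟩ := D.double_cosets closure_gens g⁻¹
  have hw' : g = h2⁻¹ * w gens ⟨i, hi⟩ * h1⁻¹ := by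
    rw [← inv_inv g, hw, w]
    group
  have h3 : A.map (MulAut.conj h2).toMonoidHom ≤ KK (HH gens) (w gens ⟨i, hi⟩) := by
    rintro _ ⟨a, ha, rfl⟩
    show h2 * a * h2⁻¹ ∈ _
    rw [mem_KK]
    refine ⟨mul_mem (mul_mem hh2 (hA ha)) (inv_mem hh2), ?_⟩
    have h4 : (w gens ⟨i, hi⟩)⁻¹ * (h2 * a * h2⁻¹) * w gens ⟨i, hi⟩ = h1⁻¹ * (g⁻¹ * a * g) * h1 := by
      rw [hw']
      group
    rw [h4]
    have h5 : g⁻¹ * a * g = a := by
      rw [mul_assoc, hg a ha]
      group
    rw [h5]
    exact mul_mem (mul_mem (inv_mem hh1) (hA ha)) hh1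
  have h4 := (Main.exact D closure_gens cardLy ⟨i, hi⟩)
  have h5' : 5 ^ 6 ∣ nn ⟨i, hi⟩ := by
    rw [← h4.2, h4.1]
    refine h5.trans ?_
    have h6 := card_dvd_of_le h3
    rwa [Subgroup.card_map_of_injective (MulAut.conj h2).injective] at h6
  have hi0 : i = 0 := congrArg Fin.val (nn_dvd ⟨i, hi⟩ h5')
  subst hi0
  have hw0 : w gens ⟨0, hi⟩ = 1 := by
    show (base gens 0)⁻¹ = 1
    exact inv_one
  rw [hw', hw0, mul_one]
  exact mul_mem (inv_mem hh2) (inv_mem hh1)

/-! ### The facts for the prime 5 -/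

open Cfsg.Agent.R10.FiveComm in
theorem U_le : (U : Subgroup Spor.Ly) ≤ HH gens := by
  rw [U, closure_le]
  rintro y (rfl | hy)
  · exact X4_mem gens 1
  · rw [Set.mem_singleton_iff] at hy
    rw [hy]
    exact ev_mem_HH gens [4, 2, 0]

open Cfsg.Agent.R10.FiveComm in
theorem u_mem : ev (X4 gens) uw ∈ (U : Subgroup Spor.Ly) := by
  have h1 : ev (X4 gens) uw = gens 1 * ev (X4 gens) [4, 2, 0] := by
    rw [uw, ev_cons]
    rfl
  rw [h1]
  exact mul_mem (_root_.Subgroup.subset_closure (Or.inl rfl)) (_root_.Subgroup.subset_closure (Or.inr rfl))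

open Cfsg.Agent.R10.FiveComm in
theorem isPGroup_U : IsPGroup 5 (U : Subgroup Spor.Ly) := by
  have : Fact (Nat.Prime 5) := ⟨by norm_num⟩
  exact IsPGroup.of_card (n := 6) (by rw [card_U]; norm_num)

open Cfsg.Agent.R10.FiveComm in
/-- `NC 5 q` for all primes `q ≠ 2, 5`. -/
theorem nc_five {q : ℕ} (hq : q.Prime) (hq2 : q ≠ 2) (hq5 : q ≠ 5) (hd : q ∣ Nat.card Spor.Ly) : NC 5 q Spor.Ly := by
  have hfin : Finite Spor.Ly := Cfsg.Agent.Ly.Setup.finite_ly
  refine nc_of_group (by norm_num) hq (Ne.symm hq5) hd U isPGroup_U fun y hy hc => ?_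
  have h1 : y ∈ HH gens := mem_HH_of_comm U U_le (by rw [card_U]; norm_num) hc
  rw [← D.range_φ] at h1
  obtain ⟨m, rfl⟩ := h1
  have hinj := injective_φ D closure_gens cardLy
  have h2 : (m : GL (Fin 7) (ZMod 5)) * ev gen uw = ev gen uw * m := by
    have h3 : D.φ m * D.φ (ev Cfsg.Agent.Ly.Upper.Data.hgen uw) = D.φ (ev Cfsg.Agent.Ly.Upper.Data.hgen uw) * D.φ m := by
      rw [D.φ_ev]
      exact (hc _ u_mem).symm
    rw [← map_mul, ← map_mul] at h3
    have h4 := congrArg Subtype.val (hinj h3)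
    rw [Subgroup.coe_mul, Subgroup.coe_mul, Cfsg.Agent.Ly.Upper.Data.coe_ev] at h4
    exact h4
  have h3 : m ^ 100 = 1 := Subtype.ext (by
    rw [Subgroup.coe_pow]
    exact pow_hundred_of_commute h2)
  have h4 : orderOf (D.φ m) ∣ 100 := orderOf_dvd_of_pow_eq_one (by rw [← map_pow, h3, map_one])
  rw [hy] at h4
  have h5 : (100 : ℕ) = 2 ^ 2 * 5 ^ 2 := by norm_num
  rw [h5] at h4
  rcases hq.dvd_mul.1 h4 with h | h
  · exact hq2 ((Nat.prime_dvd_prime_iff_eq hq Nat.prime_two).1 (hq.dvd_of_dvd_pow h))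
  · exact hq5 ((Nat.prime_dvd_prime_iff_eq hq Nat.prime_five).1 (hq.dvd_of_dvd_pow h))

end Cfsg.Agent.H164.LyNH
end

-- part: H164/LyNHc
section
/-!
# Row of the nilpotent Hall cluster: `Ly` (the prime 3, and the row)
-/

set_option autoImplicit false
set_option maxRecDepth 100000

open Subgroup

namespace Cfsg.Agent.H164.LyNH

open Cfsg Cfsg.Agent.H241.NH Cfsg.Agent.H630.NH Cfsg.Agent.H393.Iso
open Cfsg.Agent.Ly.Mat7 Cfsg.Agent.Ly.Pres Cfsg.Agent.Ly.WalkCtx Cfsg.Agent.Ly.McL.Main Cfsg.Agent.Ly.McL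
  Cfsg.Agent.Ly.Cover Cfsg.Agent.Ly.McL.Cosets

/-! ### The element `x` with `C(x) = 3.McL` -/

/-- the element -/
noncomputable def x₀ : Spor.Ly := ev (X4 gens) Cfsg.Agent.Ly.McL.Data.xw

theorem x₀_order : orderOf x₀ = 3 := order_x' D closure_gens cardLy

theorem x₀_card : Nat.card (centralizer ({x₀} : Set Spor.Ly)) = 2694384000 :=
  have : Finite Spor.Ly := Cfsg.Agent.Ly.Setup.finite_ly
  (Main.main D closure_gens cardLy
    (Cfsg.Agent.Ly.McL.ClassX.card_centralizer_x_le Cfsg.Agent.Ly.T1.card_Hhat)).1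

theorem nc_three_big {q : ℕ} (hq : q.Prime) (hq3 : 3 ≠ q) (hd : q ∣ 51765179004000000) (hn : ¬ q ∣ 2694384000) :
    NC 3 q Spor.Ly := by
  have hfin : Finite Spor.Ly := Cfsg.Agent.Ly.Setup.finite_ly
  refine nc_of_card (a := 1) hq hq3 ⟨1, by rw [x₀_order, pow_one]⟩ ?_ ?_
  · rw [cardLy, pow_one]; exact hd
  · rw [x₀_card, pow_one]; exact hn

/-! ### A nonabelian 3-group -/

open Cfsg.Agent.TypeM.OutLyFin in
theorem w1_pow : eqW (w1 ++ w1 ++ w1) [] = true := by decide +kernel

open Cfsg.Agent.TypeM.OutLyFin in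
theorem w2_pow : eqW (w2 ++ w2 ++ w2) [] = true := by decide +kernel

/-- the generators -/
noncomputable def a₁ : Spor.Ly := ev (X4 gens) Cfsg.Agent.TypeM.OutLyFin.w1

/-- the generators -/
noncomputable def a₂ : Spor.Ly := ev (X4 gens) Cfsg.Agent.TypeM.OutLyFin.w2

theorem a₁_pow : a₁ ^ 3 = 1 := by
  have h := D.wp _ _ w1_pow
  rw [ev_append, ev_append, ev_nil] at h
  rw [pow_succ, pow_two]; exact h

theorem a₂_pow : a₂ ^ 3 = 1 := by
  have h := D.wp _ _ w2_pow
  rw [ev_append, ev_append, ev_nil] at h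
  rw [pow_succ, pow_two]; exact h

theorem a₁_comm : a₁ * x₀ = x₀ * a₁ := by
  have h := D.wp _ _ Cfsg.Agent.TypeM.OutLyFin.chk1
  rwa [ev_append, ev_append] at h

theorem a₂_comm : a₂ * x₀ = x₀ * a₂ := by
  have h := D.wp _ _ Cfsg.Agent.TypeM.OutLyFin.chk2
  rwa [ev_append, ev_append] at h

theorem a_rel : x₀ * (a₁ * a₂) = a₂ * a₁ := by
  have h := D.wp _ _ Cfsg.Agent.TypeM.OutLyFin.chk3
  rwa [ev_append, ev_append, ev_append] at h

theorem x₀_pow : x₀ ^ 3 = 1 := by rw [← x₀_order, pow_orderOf_eq_one]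

/-- the 3-group -/
noncomputable def A3 : Subgroup Spor.Ly := zpowers a₁ ⊔ (zpowers a₂ ⊔ zpowers x₀)

theorem isPGroup_zp {g : Spor.Ly} (h : g ^ 3 = 1) : IsPGroup 3 (zpowers g) :=
  IsPGroup.of_surjective (G := zpowers g) (H := zpowers g) (by
    rintro ⟨y, i, rfl⟩
    refine ⟨1, Subtype.ext ?_⟩
    show (g ^ i) ^ 3 ^ 1 = 1
    rw [pow_one, ← zpow_natCast, ← zpow_mul, mul_comm, zpow_mul, zpow_natCast, h, one_zpow])
    (MonoidHom.id _) Function.surjective_id

theorem mem_norm {G : Type*} [Group G] [Finite G] {A : Subgroup G} {g : G} (h : ∀ t ∈ A, g * t * g⁻¹ ∈ A) :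
    g ∈ normalizer (A : Set G) := by
  have h1 : A.map (MulAut.conj g).toMonoidHom = A := by
    refine Subgroup.eq_of_le_of_card_ge ?_ ?_
    · rintro _ ⟨t, ht, rfl⟩
      exact h t ht
    · rw [Subgroup.card_map_of_injective (MulAut.conj g).injective]
  rw [mem_normalizer_iff]
  intro t
  refine ⟨fun ht => h t ht, fun ht => ?_⟩
  have h2 : g * t * g⁻¹ ∈ A.map (MulAut.conj g).toMonoidHom := by rw [h1]; exact ht
  obtain ⟨s, hs, hst⟩ := h2
  have h3 : g * s * g⁻¹ = g * t * g⁻¹ := hst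
  have h4 : s = t := mul_left_cancel (mul_right_cancel h3)
  rwa [← h4]

theorem isPGroup_A3 : IsPGroup 3 A3 := by
  have hfin : Finite Spor.Ly := Cfsg.Agent.Ly.Setup.finite_ly
  have h1 : IsPGroup 3 (zpowers a₂ ⊔ zpowers x₀ : Subgroup Spor.Ly) := by
    refine IsPGroup.to_sup_of_normal_right' (isPGroup_zp a₂_pow) (isPGroup_zp x₀_pow) ?_
    rw [zpowers_le]
    refine mem_norm fun t ht => ?_
    obtain ⟨n, rfl⟩ := mem_zpowers_iff.1 ht
    have h : Commute a₂ (x₀ ^ n) := (show Commute a₂ x₀ from a₂_comm).zpow_right n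
    rw [h.eq, mul_inv_cancel_right]
    exact ht
  refine IsPGroup.to_sup_of_normal_right' (isPGroup_zp a₁_pow) h1 ?_
  rw [zpowers_le]
  refine mem_norm fun t ht => ?_
  have h3 : (zpowers a₂ ⊔ zpowers x₀ : Subgroup Spor.Ly) ≤
      (zpowers a₂ ⊔ zpowers x₀ : Subgroup Spor.Ly).comap (MulAut.conj a₁).toMonoidHom := by
    rw [sup_le_iff, zpowers_le, zpowers_le, mem_comap, mem_comap]
    constructor
    · show a₁ * a₂ * a₁⁻¹ ∈ _
      have h4 : a₁ * a₂ * a₁⁻¹ = x₀⁻¹ * a₂ := by
        have h5 : a₁ * a₂ = x₀⁻¹ * (a₂ * a₁) := by rw [← a_rel]; group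
        rw [h5]; group
      rw [h4]
      exact mul_mem (inv_mem (mem_sup_right (mem_zpowers x₀))) (mem_sup_left (mem_zpowers a₂))
    · show a₁ * x₀ * a₁⁻¹ ∈ _
      rw [a₁_comm, mul_inv_cancel_right]
      exact mem_sup_right (mem_zpowers x₀)
  exact h3 ht

theorem a_not_comm : a₁ * a₂ ≠ a₂ * a₁ := by
  intro h
  have h1 := a_rel
  rw [← h] at h1
  have h2 : x₀ = 1 := mul_eq_right.1 h1
  have h3 := x₀_order
  rw [h2, orderOf_one] at h3
  exact absurd h3 (by norm_num)

/-! ### Permutations -/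

open Equiv in
/-- `i ↦ 2 i` on the first seven points -/
def s7 : Perm (Fin 11) where
  toFun i := ![0, 2, 4, 6, 1, 3, 5, 7, 8, 9, 10] i
  invFun i := ![0, 4, 1, 5, 2, 6, 3, 7, 8, 9, 10] i
  left_inv := by decide
  right_inv := by decide

open Equiv in
/-- a 7-cycle -/
def t7 : Perm (Fin 11) where
  toFun i := ![1, 2, 3, 4, 5, 6, 0, 7, 8, 9, 10] i
  invFun i := ![6, 0, 1, 2, 3, 4, 5, 7, 8, 9, 10] i
  left_inv := by decide
  right_inv := by decide

open Equiv in
theorem fr37 {C : Type*} [Group C] (K : Cfsg.Agent.SporRec.TwoAn.Cover (Fin 11) C) : Fr 3 7 C :=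
  fr_lift K (by norm_num) (by norm_num) (by norm_num) (by norm_num) (σ := s7) (τ := t7) (m := 2)
    (by decide +kernel) (by decide +kernel) (by decide +kernel) (by decide +kernel) (by decide +kernel)
    (by decide +kernel)

theorem nc_three_seven : NC 3 7 Spor.Ly := by
  have hfin : Finite Spor.Ly := Cfsg.Agent.Ly.Setup.finite_ly
  obtain ⟨L⟩ := Cfsg.Agent.TypeM.FactsLy.exists_mt_ly
  exact (Fr.sub (fr37 L.K)).nc (by norm_num) (by norm_num)

open Equiv Cfsg.Agent.SporRec.TwoAn in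
theorem exists_eleven {C : Type*} [Group C] (K : Cover (Fin 11) C) :
    ∃ y : C, orderOf y = 11 ∧ Nat.card (centralizer ({y} : Set C)) ∣ 22 := by
  have h1 : finRotate 11 ∈ K.π.range := by
    rw [K.range_eq, Perm.mem_alternatingGroup]
    decide +kernel
  obtain ⟨u, hu⟩ := h1
  have h11 : (finRotate 11) ^ 11 = 1 := by decide +kernel
  have h2 : K.π (u ^ 11) = 1 := by rw [map_pow, hu, h11]
  have h3 : (u ^ 11) ^ 2 = 1 := by
    rcases (K.ker _).1 h2 with h | h
    · rw [h, one_pow]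
    · rw [h]; exact K.z_pow_two
  have hπ : K.π (u ^ 12) = finRotate 11 := by
    rw [map_pow, hu, pow_succ, h11, one_mul]
  refine ⟨u ^ 12, ?_, ?_⟩
  · have : Fact (Nat.Prime 11) := ⟨by norm_num⟩
    refine orderOf_eq_prime ?_ ?_
    · have : 12 * 11 = 11 * 2 * 6 := by norm_num
      rw [← pow_mul, this, pow_mul, pow_mul, h3, one_pow]
    · intro h
      rw [h, map_one] at hπ
      exact absurd hπ (by decide +kernel)
  · refine (Cfsg.Agent.CpAut.Cyc.card_cent_dvd K (u ^ 12)).trans ?_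
    rw [hπ]
    have hcyc : (finRotate 11).cycleType = {11} := cycleType_finRotate
    have h4 : Nat.card (centralizer ({finRotate 11} : Set (Perm (Fin 11)))) = 11 := by
      rw [Perm.nat_card_centralizer, hcyc]
      simp
    rw [h4]

theorem nc_three_eleven : NC 3 11 Spor.Ly := by
  have hfin : Finite Spor.Ly := Cfsg.Agent.Ly.Setup.finite_ly
  obtain ⟨L⟩ := Cfsg.Agent.TypeM.FactsLy.exists_mt_ly
  obtain ⟨y, hy, hc⟩ := exists_eleven L.K
  have hcard : Nat.card (centralizer ({L.t} : Set Spor.Ly) ⊓ centralizer ({(y : Spor.Ly)} : Set Spor.Ly) :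
      Subgroup Spor.Ly) ∣ 22 := by
    refine dvd_trans ?_ hc
    rw [← card_map_of_injective (f := (centralizer ({L.t} : Set Spor.Ly)).subtype) (subtype_injective _)]
    apply card_dvd_of_le
    rintro g ⟨h1, h2⟩
    refine ⟨⟨g, h1⟩, ?_, rfl⟩
    change _ ∈ centralizer ({y} : Set (centralizer ({L.t} : Set Spor.Ly)))
    rw [mem_centralizer_singleton_iff]
    exact Subtype.ext (mem_centralizer_singleton_iff.1 h2)
  refine nc_of_invol (p := 3) (q := 11) (by norm_num) (by norm_num) (by norm_num) (by norm_num)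
    (by rw [cardLy]; norm_num) (by rw [cardLy]; norm_num) (y := (y : Spor.Ly)) (t := L.t)
    (by rw [orderOf_coe]; exact hy) L.t_mul_t ?_ ?_ ?_ ?_ A3 isPGroup_A3
    (mem_sup_left (mem_zpowers a₁)) (mem_sup_right (mem_sup_left (mem_zpowers a₂))) a_not_comm
  · intro h
    apply L.K.z_ne
    apply Subtype.ext
    rw [L.hz, h]
    rfl
  · exact (mem_centralizer_singleton_iff.1 y.2).symm
  · intro h
    have := h.trans hcard
    revert this
    norm_num
  · intro h
    have := h.trans hcard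
    revert this
    norm_num

/-! ### The row -/

theorem row_Ly' : Row Spor.Ly := by
  have hfin : Finite Spor.Ly := Cfsg.Agent.Ly.Setup.finite_ly
  obtain ⟨L⟩ := Cfsg.Agent.TypeM.FactsLy.exists_mt_ly
  have hfive : ∀ q, q.Prime → q ≠ 2 → q ≠ 5 → q ∣ 51765179004000000 → NC 5 q Spor.Ly := fun q hq h2 h5 hd =>
    nc_five hq h2 h5 (by rwa [cardLy])
  refine row_of (N := 51765179004000000) (k := 8) cardLy [3, 5, 7, 11, 31, 37, 67] [3, 5] [31, 37, 67] 7 []
    ?_ ?_ ?_ ?_ ?_ ?_ ?_ ?_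
  · decide +kernel
  · decide +kernel
  · decide +kernel
  · exact ab_of_not_cube (by norm_num) (by rw [cardLy]; norm_num)
  · intro p hp q hq hpq
    simp only [List.mem_cons, List.not_mem_nil, or_false] at hp hq
    rcases hp with rfl | rfl
    · rcases hq with rfl | rfl | rfl | rfl | rfl | rfl | rfl
      · exact absurd rfl hpq
      · exact (hfive 3 (by norm_num) (by norm_num) (by norm_num) (by norm_num)).symm
      · exact nc_three_seven
      · exact nc_three_eleven
      · exact nc_three_big (by norm_num) (by norm_num) (by norm_num) (by norm_num)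
      · exact nc_three_big (by norm_num) (by norm_num) (by norm_num) (by norm_num)
      · exact nc_three_big (by norm_num) (by norm_num) (by norm_num) (by norm_num)
    · rcases hq with rfl | rfl | rfl | rfl | rfl | rfl | rfl
      · exact hfive _ (by norm_num) (by norm_num) (by norm_num) (by norm_num)
      · exact absurd rfl hpq
      · exact hfive _ (by norm_num) (by norm_num) (by norm_num) (by norm_num)
      · exact hfive _ (by norm_num) (by norm_num) (by norm_num) (by norm_num)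
      · exact hfive _ (by norm_num) (by norm_num) (by norm_num) (by norm_num)
      · exact hfive _ (by norm_num) (by norm_num) (by norm_num) (by norm_num)
      · exact hfive _ (by norm_num) (by norm_num) (by norm_num) (by norm_num)
  · intro r hr
    simp only [List.mem_cons, List.not_mem_nil, or_false] at hr
    rcases hr with rfl | rfl | rfl
    · exact solv_of_na (by norm_num) (by rw [cardLy]; norm_num)
        (na_of_mt (by norm_num) (by norm_num) (by norm_num) L)
    · exact solv_of_na (by norm_num) (by rw [cardLy]; norm_num)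
        (na_of_mt (by norm_num) (by norm_num) (by norm_num) L)
    · exact solv_of_na (by norm_num) (by rw [cardLy]; norm_num)
        (na_of_mt (by norm_num) (by norm_num) (by norm_num) L)
  · intro a ha; exact absurd ha (by simp)
  · decide +kernel

/-- **The row `Ly`.** -/
theorem row_ly {G : Type*} [Group G] [Finite G] [IsSimpleGroup G] (h : Spor.IsoLy G) : Row G := by
  obtain ⟨e⟩ := h
  exact row_Ly'.congr e.symm

end Cfsg.Agent.H164.LyNH
end

private theorem dce_06cfc2be43cb : _root_.True := by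
  try have : _root_.True := by simp only [_root_.Cfsg.Agent.H164.LyNH.uw.eq_1]
  try have : _root_.True := by simp only [_root_.Cfsg.Agent.R10.FiveComm.U.eq_1]
  exact _root_.True.intro
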